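import Groth.Agent.Hensel.SmoothModel
import Groth.Prelude.Def_Smoothing
import Mathlib.RingTheory.Flat.EquationalCriterion
import Mathlib.RingTheory.Ideal.Quotient.Nilpotent

/-!
# Ind-smooth algebras lift along nilpotent ideals
-/

set_option autoImplicit false

noncomputable section

universe u

namespace Groth.Agent.IndSmoothLift

variable {R : Type u} [CommRing R] {I : Ideal R}

theorem exists_finite_rep {S : Type u} [CommRing S] [Algebra R S] {x : S} (hx : x ∈ I.map (algebraMap R S)) :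
    ∃ (q : ℕ) (a : Fin q → R) (l : Fin q → S), (∀ k, a k ∈ I) ∧ x = ∑ k, a k • l k := by
  have hx' : x ∈ I • (⊤ : Submodule R S) := by
    rw [Ideal.smul_top_eq_map]; exact hx
  refine Submodule.smul_induction_on (p := fun z => ∃ (q : ℕ) (a : Fin q → R) (l : Fin q → S),
    (∀ k, a k ∈ I) ∧ z = ∑ k, a k • l k) hx' (fun a ha s _ => ⟨1, fun _ => a, fun _ => s, fun _ => ha, by simp⟩) ?_
  rintro x y ⟨q, a, l, ha, rfl⟩ ⟨q', a', l', ha', rfl⟩
  refine ⟨q + q', Fin.append a a', Fin.append l l', fun k => ?_, ?_⟩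
  · induction k using Fin.addCases <;> simp [ha, ha']
  · rw [Fin.sum_univ_add]
    simp

theorem smul_mem_map {S : Type u} [CommRing S] [Algebra R S] {a : R} (ha : a ∈ I) (s : S) :
    a • s ∈ I.map (algebraMap R S) := by
  rw [Algebra.smul_def]
  exact Ideal.mul_mem_right _ _ (Ideal.mem_map_of_mem _ ha)

theorem sq_map (hI : I ^ 2 = ⊥) (S : Type u) [CommRing S] [Algebra R S] : I.map (algebraMap R S) ^ 2 = ⊥ := by
  rw [← Ideal.map_pow, hI, Ideal.map_bot]

theorem mul_eq_zero_of_mem (hI : I ^ 2 = ⊥) {S : Type u} [CommRing S] [Algebra R S] {x y : S}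
    (hx : x ∈ I.map (algebraMap R S)) (hy : y ∈ I.map (algebraMap R S)) : x * y = 0 := by
  have h := Ideal.mul_mem_mul hx hy
  rw [← pow_two, sq_map hI, Ideal.mem_bot] at h
  exact h

/-- Maps from smooth algebras lift along a square-zero quotient. -/
theorem exists_lift_mk (hI : I ^ 2 = ⊥) {B : Type u} [CommRing B] [Algebra R B] [Algebra.FormallySmooth R B]
    (Λ : Type u) [CommRing Λ] [Algebra R Λ] (f : B →ₐ[R] Λ ⧸ I.map (algebraMap R Λ)) :
    ∃ h : B →ₐ[R] Λ, ∀ b, Ideal.Quotient.mk (I.map (algebraMap R Λ)) (h b) = f b := by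
  have hker : RingHom.ker ((Ideal.Quotient.mkₐ R (I.map (algebraMap R Λ))) : Λ →+* Λ ⧸ I.map (algebraMap R Λ)) = I.map (algebraMap R Λ) :=
    Ideal.ext fun x => Ideal.Quotient.eq_zero_iff_mem
  have hnil : IsNilpotent (RingHom.ker ((Ideal.Quotient.mkₐ R (I.map (algebraMap R Λ))) : Λ →+* Λ ⧸ I.map (algebraMap R Λ))) :=
    hker.symm ▸ ⟨2, sq_map hI Λ⟩
  exact ⟨_, Algebra.FormallySmooth.liftOfSurjective_apply f _ Ideal.Quotient.mk_surjective hnil⟩

/-- Adjusting a lift modulo `I` by polynomial variables so that it takes prescribed values. -/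
theorem exists_adjust {Λ : Type u} [CommRing Λ] [Algebra R Λ] {D : Type u} [CommRing D] [Algebra R D] [Algebra.Smooth R D]
    (hD : D →ₐ[R] Λ) {n : ℕ} (c : Fin n → D) (t : Fin n → Λ) (h : ∀ i, t i - hD (c i) ∈ I.map (algebraMap R Λ)) :
    ∃ (D' : Type u) (_ : CommRing D') (_ : Algebra R D'), Algebra.Smooth R D' ∧
      ∃ (ι : D →ₐ[R] D') (h' : D' →ₐ[R] Λ) (c' : Fin n → D'), (∀ x, h' (ι x) = hD x) ∧ (∀ i, h' (c' i) = t i) ∧
        ∀ i, c' i - ι (c i) ∈ I.map (algebraMap R D') := by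
  classical
  choose q a l ha hl using fun i => exists_finite_rep (h i)
  let h' : MvPolynomial (Σ i, Fin (q i)) D →ₐ[R] Λ := MvPolynomial.aevalTower hD fun k => l k.1 k.2
  have : Algebra.Smooth D (MvPolynomial (Σ i, Fin (q i)) D) := ⟨inferInstance, inferInstance⟩
  refine ⟨MvPolynomial (Σ i, Fin (q i)) D, inferInstance, inferInstance,
    Algebra.Smooth.comp R D (MvPolynomial (Σ i, Fin (q i)) D), IsScalarTower.toAlgHom R D (MvPolynomial (Σ i, Fin (q i)) D), h',
    fun i => MvPolynomial.C (c i) + ∑ k, a i k • MvPolynomial.X ⟨i, k⟩, fun x => ?_, fun i => ?_, fun i => ?_⟩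
  · exact MvPolynomial.aevalTower_algebraMap hD _ x
  · simp only [h', map_add, map_sum, map_smul, MvPolynomial.aevalTower_C, MvPolynomial.aevalTower_X]
    rw [← hl, add_sub_cancel]
  · simp only [IsScalarTower.coe_toAlgHom', MvPolynomial.algebraMap_eq, add_sub_cancel_left]
    exact Ideal.sum_mem _ fun k _ => smul_mem_map (ha i k) _

variable {Λ : Type u} [CommRing Λ] [Algebra R Λ]

/-- A map from a finitely presented algebra factors, modulo `I`, through the reduction of a smooth algebra. -/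
theorem exists_lift_ideal (hI : I ^ 2 = ⊥) (h : Smoothing.IndSmooth (R ⧸ I) (Λ ⧸ I.map (algebraMap R Λ)))
    {A : Type u} [CommRing A] [Algebra R A] [Algebra.FinitePresentation R A] (φ : A →ₐ[R] Λ) :
    ∃ (B : Type u) (_ : CommRing B) (_ : Algebra R B), Algebra.Smooth R B ∧
      ∃ J : Ideal B, J ≤ I.map (algebraMap R B) ∧ J.FG ∧
        ∃ (g : A →ₐ[R] B ⧸ J) (k : (B ⧸ J) →ₐ[R] Λ), k.comp g = φ := by
  classical
  have hs : Function.Surjective (algebraMap R (R ⧸ I)) := Ideal.Quotient.mk_surjective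
  let T := A ⧸ I.map (algebraMap R A)
  have : Algebra.FinitePresentation (R ⧸ I) T :=
    Algebra.FinitePresentation.equiv (Algebra.TensorProduct.quotIdealMapEquivQuotTensor A I).symm
  let φR : T →ₐ[R] Λ ⧸ I.map (algebraMap R Λ) := Ideal.quotientMapₐ _ φ (Ideal.map_le_iff_le_comap.2 fun r hr => by
    show φ (algebraMap R _ r) ∈ I.map (algebraMap R Λ)
    rw [φ.commutes]
    exact Ideal.mem_map_of_mem _ hr)
  obtain ⟨Bb, _, _, hBb, gb, hb, hgh⟩ := h T inferInstance (φR.extendScalarsOfSurjective hs)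
  let : Algebra R Bb := ((algebraMap (R ⧸ I) Bb).comp (algebraMap R (R ⧸ I))).toAlgebra
  have : IsScalarTower R (R ⧸ I) Bb := .of_algebraMap_eq fun _ => rfl
  obtain ⟨B, _, _, σ, hB, hσs, hσk⟩ := Hensel.SmoothModel.exists_smooth_lift I Bb
  obtain ⟨hB', hhB'⟩ := exists_lift_mk hI Λ ((hb.restrictScalars R).comp σ)
  obtain ⟨n, π, hπ, hπfg⟩ := Algebra.FinitePresentation.out (R := R) (A := A)
  choose c hc using fun i : Fin n => hσs (gb (Ideal.Quotient.mk _ (π (MvPolynomial.X i))))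
  obtain ⟨B', _, _, hB's, ι, h', c', hι, hc', hcc⟩ := exists_adjust (I := I) hB' c (fun i => φ (π (MvPolynomial.X i)))
    fun i => by
      rw [← Ideal.Quotient.eq, hhB']
      show _ = hb (σ (c i))
      rw [hc]
      exact (DFunLike.congr_fun hgh (Ideal.Quotient.mk _ (π (MvPolynomial.X i)))).symm
  let g' : MvPolynomial (Fin n) R →ₐ[R] B' := MvPolynomial.aeval c'
  have hg' : h'.comp g' = φ.comp π := MvPolynomial.algHom_ext fun i => by simp [g', hc']
  let J : Ideal B' := (RingHom.ker π.toRingHom).map g'.toRingHom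
  have hJI : J ≤ I.map (algebraMap R B') := by
    refine Ideal.map_le_iff_le_comap.2 fun p hp => ?_
    have h1 : (Ideal.Quotient.mkₐ R (I.map (algebraMap R B'))).comp g' =
        ((Ideal.Quotient.mkₐ R (I.map (algebraMap R B'))).comp ι).comp (MvPolynomial.aeval c) :=
      MvPolynomial.algHom_ext fun i => by simpa [g', Ideal.Quotient.eq] using hcc i
    have h2 : σ.comp (MvPolynomial.aeval c) = ((gb.restrictScalars R).comp (Ideal.Quotient.mkₐ R _)).comp π :=
      MvPolynomial.algHom_ext fun i => by simp [hc]; rfl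
    have h3 : MvPolynomial.aeval c p ∈ I.map (algebraMap R B) := by
      rw [← hσk, RingHom.mem_ker]
      show σ _ = 0
      rw [← AlgHom.comp_apply, h2]
      show gb (Ideal.Quotient.mk _ (π p)) = 0
      rw [show π p = 0 from hp, map_zero, map_zero]
    rw [Ideal.mem_comap, ← Ideal.Quotient.eq_zero_iff_mem]
    refine (DFunLike.congr_fun h1 p).trans ?_
    show Ideal.Quotient.mk _ (ι (MvPolynomial.aeval c p)) = 0
    rw [Ideal.Quotient.eq_zero_iff_mem]
    have h4 := Ideal.mem_map_of_mem ι.toRingHom h3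
    rwa [Ideal.map_map, show ι.toRingHom.comp (algebraMap R B) = algebraMap R B' from ι.comp_algebraMap] at h4
  have hk : ∀ x ∈ J, h' x = 0 := fun x hx => by
    refine (Ideal.map_le_iff_le_comap.2 fun p hp => ?_ : J ≤ RingHom.ker h'.toRingHom) hx
    show h' (g' p) = 0
    rw [← AlgHom.comp_apply, hg', AlgHom.comp_apply, show π p = 0 from hp, map_zero]
  let g : A →ₐ[R] B' ⧸ J := (Ideal.Quotient.liftₐ (RingHom.ker π.toRingHom) ((Ideal.Quotient.mkₐ R J).comp g')
    fun p hp => Ideal.Quotient.eq_zero_iff_mem.2 (Ideal.mem_map_of_mem _ hp)).comp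
    (Ideal.quotientKerAlgEquivOfSurjective hπ).symm.toAlgHom
  refine ⟨B', inferInstance, inferInstance, hB's, J, hJI, hπfg.map _, g, Ideal.Quotient.liftₐ J h' hk, ?_⟩
  ext x
  obtain ⟨p, rfl⟩ := hπ x
  have h9 : (Ideal.quotientKerAlgEquivOfSurjective hπ).symm (π p) = Ideal.Quotient.mk _ p :=
    (AlgEquiv.symm_apply_eq _).2 rfl
  simp only [g, AlgHom.comp_apply]
  erw [h9]
  exact DFunLike.congr_fun hg' p

/-- A smooth algebra mapping to a flat algebra, with an ideal in `IB` mapping to zero, maps on through a smooth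
algebra in which the ideal dies. -/
theorem exists_lift_smooth [Module.Flat R Λ] (hI : I ^ 2 = ⊥)
    (h : Smoothing.IndSmooth (R ⧸ I) (Λ ⧸ I.map (algebraMap R Λ)))
    {B : Type u} [CommRing B] [Algebra R B] [Algebra.Smooth R B] (φ : B →ₐ[R] Λ) (J : Ideal B)
    (hJ : J ≤ I.map (algebraMap R B)) (hJfg : J.FG) (hφJ : ∀ x ∈ J, φ x = 0) :
    ∃ (B' : Type u) (_ : CommRing B') (_ : Algebra R B'), Algebra.Smooth R B' ∧
      ∃ (α : B →ₐ[R] B') (β : B' →ₐ[R] Λ), (∀ x ∈ J, α x = 0) ∧ β.comp α = φ := by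
  classical
  have hs : Function.Surjective (algebraMap R (R ⧸ I)) := Ideal.Quotient.mk_surjective
  obtain ⟨N, j, hj⟩ := Submodule.fg_iff_exists_fin_generating_family.1 hJfg
  replace hj : Ideal.span (Set.range j) = J := hj
  choose q a b ha hab using fun k => exists_finite_rep (hJ (hj.le (Ideal.subset_span ⟨k, rfl⟩)))
  have hrel : ∀ k, Module.IsTrivialRelation (a k) fun l => φ (b k l) := fun k =>
    Module.Flat.isTrivialRelation_of_sum_smul_eq_zero (by
      have h1 := congrArg φ (hab k)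
      rw [hφJ _ (hj.le (Ideal.subset_span ⟨k, rfl⟩)), map_sum] at h1
      simpa only [map_smul] using h1.symm)
  choose κ r lam hr hra using hrel
  let rel : (Σ k, Fin (q k)) → (MvPolynomial (Σ k, Fin (κ k)) B) := fun i =>
    MvPolynomial.C (b i.1 i.2) - ∑ m, r i.1 i.2 m • MvPolynomial.X ⟨i.1, m⟩
  let C := (MvPolynomial (Σ k, Fin (κ k)) B) ⧸ Ideal.span (Set.range rel)
  have : Algebra.FinitePresentation R (MvPolynomial (Σ k, Fin (κ k)) B) := Algebra.FinitePresentation.trans R B (MvPolynomial (Σ k, Fin (κ k)) B)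
  have : Algebra.FinitePresentation R C :=
    Algebra.FinitePresentation.quotient (Submodule.fg_span (Set.finite_range rel))
  let χ₀ : (MvPolynomial (Σ k, Fin (κ k)) B) →ₐ[R] Λ := MvPolynomial.aevalTower φ fun z => lam z.1 z.2
  let χ : C →ₐ[R] Λ := Ideal.Quotient.liftₐ _ χ₀ fun x hx => by
    refine (Ideal.span_le.2 ?_ : Ideal.span (Set.range rel) ≤ RingHom.ker χ₀.toRingHom) hx
    rintro _ ⟨⟨k, l⟩, rfl⟩
    show χ₀ _ = 0
    simp only [χ₀, rel, map_sub, map_sum, map_smul, MvPolynomial.aevalTower_C, MvPolynomial.aevalTower_X]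
    rw [← hr, sub_self]
  let T := C ⧸ I.map (algebraMap R C)
  have : Algebra.FinitePresentation (R ⧸ I) T :=
    Algebra.FinitePresentation.equiv (Algebra.TensorProduct.quotIdealMapEquivQuotTensor C I).symm
  let χR : T →ₐ[R] Λ ⧸ I.map (algebraMap R Λ) := Ideal.quotientMapₐ _ χ (Ideal.map_le_iff_le_comap.2 fun r hr => by
    show χ (algebraMap R _ r) ∈ I.map (algebraMap R Λ)
    rw [χ.commutes]
    exact Ideal.mem_map_of_mem _ hr)
  obtain ⟨Db, _, _, hDb, gb, hb, hgh⟩ := h T inferInstance (χR.extendScalarsOfSurjective hs)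
  let : Algebra R Db := ((algebraMap (R ⧸ I) Db).comp (algebraMap R (R ⧸ I))).toAlgebra
  have : IsScalarTower R (R ⧸ I) Db := .of_algebraMap_eq fun _ => rfl
  obtain ⟨D, _, _, σ, hD, hσs, hσk⟩ := Hensel.SmoothModel.exists_smooth_lift I Db
  obtain ⟨hD', hhD'⟩ := exists_lift_mk hI Λ ((hb.restrictScalars R).comp σ)
  let θ₀ : (MvPolynomial (Σ k, Fin (κ k)) B) →ₐ[R] Db := ((gb.restrictScalars R).comp (Ideal.Quotient.mkₐ R (I.map (algebraMap R C)))).comp
    (Ideal.Quotient.mkₐ R (Ideal.span (Set.range rel)))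
  let θ : B →ₐ[R] Db := θ₀.comp (IsScalarTower.toAlgHom R B (MvPolynomial (Σ k, Fin (κ k)) B))
  obtain ⟨n, π, hπ, hπfg⟩ := Algebra.FinitePresentation.out (R := R) (A := B)
  choose c hc using fun i : Fin n => hσs (θ (π (MvPolynomial.X i)))
  choose ζ hζ using fun z => hσs (θ₀ (MvPolynomial.X z))
  obtain ⟨D', _, _, hD's, ι, h', c', hι, hc', hcc⟩ := exists_adjust (I := I) hD' c (fun i => φ (π (MvPolynomial.X i)))
    fun i => by
      rw [← Ideal.Quotient.eq, hhD']
      show _ = hb (σ (c i))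
      rw [hc]
      refine Eq.trans ?_ (DFunLike.congr_fun hgh _).symm
      show Ideal.Quotient.mk _ (φ (π (MvPolynomial.X i))) = Ideal.Quotient.mk _ (χ₀ (MvPolynomial.C (π (MvPolynomial.X i))))
      simp [χ₀]
  let mkQ := Ideal.Quotient.mkₐ R (I.map (algebraMap R D'))
  let ρ : Db →ₐ[R] D' ⧸ I.map (algebraMap R D') :=
    (Ideal.Quotient.liftₐ (RingHom.ker σ.toRingHom) (mkQ.comp ι) fun x hx => Ideal.Quotient.eq_zero_iff_mem.2 (by
      have h4 := Ideal.mem_map_of_mem ι.toRingHom (hσk.le hx)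
      rwa [Ideal.map_map, show ι.toRingHom.comp (algebraMap R D) = algebraMap R D' from ι.comp_algebraMap] at h4)).comp
      (Ideal.quotientKerAlgEquivOfSurjective hσs).symm.toAlgHom
  have hρ : ∀ x, ρ (σ x) = mkQ (ι x) := fun x => by
    have h9 : (Ideal.quotientKerAlgEquivOfSurjective hσs).symm (σ x) = Ideal.Quotient.mk _ x :=
      (AlgEquiv.symm_apply_eq _).2 rfl
    simp only [ρ, AlgHom.comp_apply]
    erw [h9]
    rfl
  let g' : MvPolynomial (Fin n) R →ₐ[R] D' := MvPolynomial.aeval c'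
  have hg' : h'.comp g' = φ.comp π := MvPolynomial.algHom_ext fun i => by simp [g', hc']
  have hmk : mkQ.comp g' = (ρ.comp θ).comp π := MvPolynomial.algHom_ext fun i => by
    show mkQ (g' (MvPolynomial.X i)) = ρ (θ (π (MvPolynomial.X i)))
    rw [← hc, hρ]
    show Ideal.Quotient.mk _ (MvPolynomial.aeval c' (MvPolynomial.X i)) = Ideal.Quotient.mk _ (ι (c i))
    rw [MvPolynomial.aeval_X, Ideal.Quotient.eq]
    exact hcc i
  let K := RingHom.ker π.toRingHom
  have hgK : ∀ p ∈ K, g' p ∈ I.map (algebraMap R D') := fun p hp => by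
    rw [← Ideal.Quotient.eq_zero_iff_mem]
    refine (DFunLike.congr_fun hmk p).trans ?_
    show ρ (θ (π p)) = 0
    rw [show π p = 0 from hp, map_zero, map_zero]
  have hgK2 : ∀ p ∈ K ^ 2, g' p = 0 := fun p hp => by
    refine (?_ : K ^ 2 ≤ RingHom.ker g'.toRingHom) hp
    rw [pow_two, Ideal.mul_le]
    intro x hx y hy
    show g' (x * y) = 0
    rw [map_mul, mul_eq_zero_of_mem hI (hgK x hx) (hgK y hy)]
  let π₂ : (MvPolynomial (Fin n) R ⧸ K ^ 2) →ₐ[R] B :=
    Ideal.Quotient.liftₐ (K ^ 2) π fun p hp => Ideal.pow_le_self two_ne_zero hp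
  have hπ₂ : Function.Surjective π₂ := fun x => by
    obtain ⟨p, hp⟩ := hπ x
    exact ⟨Ideal.Quotient.mk _ p, hp⟩
  have hnil : IsNilpotent (RingHom.ker (π₂ : MvPolynomial (Fin n) R ⧸ K ^ 2 →+* B)) := by
    refine ⟨2, le_bot_iff.1 ?_⟩
    refine le_of_eq_of_le (Submodule.pow_succ (M := RingHom.ker (π₂ : MvPolynomial (Fin n) R ⧸ K ^ 2 →+* B)) (n := 1)) ?_
    rw [Submodule.pow_one]
    refine Ideal.mul_le.2 fun x hx y hy => ?_
    obtain ⟨x, rfl⟩ := Ideal.Quotient.mk_surjective x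
    obtain ⟨y, rfl⟩ := Ideal.Quotient.mk_surjective y
    rw [Ideal.mem_bot, ← map_mul, Ideal.Quotient.eq_zero_iff_mem, pow_two]
    exact Ideal.mul_mem_mul hx hy
  let s : B →ₐ[R] MvPolynomial (Fin n) R ⧸ K ^ 2 := Algebra.FormallySmooth.liftOfSurjective (AlgHom.id R B) π₂ hπ₂ hnil
  let α : B →ₐ[R] D' := (Ideal.Quotient.liftₐ (K ^ 2) g' hgK2).comp s
  have hα : ∀ x, ∃ p, π p = x ∧ α x = g' p := fun x => by
    obtain ⟨p, hp⟩ := Ideal.Quotient.mk_surjective (s x)
    refine ⟨p, ?_, ?_⟩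
    · have h1 : π₂ (s x) = x := Algebra.FormallySmooth.liftOfSurjective_apply (AlgHom.id R B) π₂ hπ₂ hnil x
      rw [← hp] at h1
      exact h1
    · show Ideal.Quotient.liftₐ (K ^ 2) g' hgK2 (s x) = _
      rw [← hp]
      rfl
  have hmkα : ∀ x, mkQ (α x) = ρ (θ x) := fun x => by
    obtain ⟨p, hp, hαp⟩ := hα x
    rw [hαp, ← hp]
    exact DFunLike.congr_fun hmk p
  refine ⟨D', inferInstance, inferInstance, hD's, α, h', fun x hx => ?_, ?_⟩
  · have hle : J ≤ RingHom.ker α.toRingHom := by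
      rw [← hj, Ideal.span_le]
      rintro _ ⟨k, rfl⟩
      show α (j k) = 0
      rw [hab k, map_sum]
      have hd : ∀ l, α (b k l) - ∑ m, r k l m • ι (ζ ⟨k, m⟩) ∈ I.map (algebraMap R D') := fun l => by
        rw [← Ideal.Quotient.eq_zero_iff_mem]
        show mkQ _ = 0
        rw [map_sub, map_sum, hmkα]
        simp only [map_smul]
        have h5 : θ₀ (rel ⟨k, l⟩) = 0 := by
          show gb (Ideal.Quotient.mk _ (Ideal.Quotient.mk (Ideal.span (Set.range rel)) (rel ⟨k, l⟩))) = 0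
          rw [Ideal.Quotient.eq_zero_iff_mem.2 (Ideal.subset_span (Set.mem_range_self (f := rel) ⟨k, l⟩)), map_zero, map_zero]
        simp only [rel, map_sub, map_sum, map_smul, sub_eq_zero] at h5
        rw [show θ (b k l) = θ₀ (MvPolynomial.C (b k l)) from rfl, h5, map_sum, ← Finset.sum_sub_distrib]
        refine Finset.sum_eq_zero fun m _ => ?_
        rw [map_smul, ← hζ, hρ, sub_self]
      calc ∑ l, α (a k l • b k l) = ∑ l, a k l • ((α (b k l) - ∑ m, r k l m • ι (ζ ⟨k, m⟩)) +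
            ∑ m, r k l m • ι (ζ ⟨k, m⟩)) := Finset.sum_congr rfl fun l _ => by rw [map_smul, sub_add_cancel]
        _ = ∑ l, a k l • ∑ m, r k l m • ι (ζ ⟨k, m⟩) := Finset.sum_congr rfl fun l _ => by
            rw [smul_add, Algebra.smul_def (a k l) (α (b k l) - _),
              mul_eq_zero_of_mem hI (Ideal.mem_map_of_mem _ (ha k l)) (hd l), zero_add]
        _ = 0 := by
            simp only [Finset.smul_sum, smul_smul]
            rw [Finset.sum_comm]
            refine Finset.sum_eq_zero fun m _ => ?_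
            rw [← Finset.sum_smul, hra, zero_smul]
    exact hle hx
  · ext x
    obtain ⟨p, hp, hαp⟩ := hα x
    show h' (α x) = φ x
    rw [hαp, ← hp]
    exact DFunLike.congr_fun hg' p

theorem indSmooth_of_sq_zero [Module.Flat R Λ] (hI : I ^ 2 = ⊥)
    (h : Smoothing.IndSmooth (R ⧸ I) (Λ ⧸ I.map (algebraMap R Λ))) : Smoothing.IndSmooth R Λ := by
  intro A _ _ hA φ
  obtain ⟨B, _, _, hB, J, hJ, hJfg, g, k, hk⟩ := exists_lift_ideal hI h φ
  obtain ⟨B', _, _, hB', α, β, hα, hβ⟩ := exists_lift_smooth hI h (k.comp (Ideal.Quotient.mkₐ R J)) J hJ hJfg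
    fun x hx => (congrArg k (Ideal.Quotient.eq_zero_iff_mem.2 hx)).trans (map_zero k)
  refine ⟨B', inferInstance, inferInstance, hB', (Ideal.Quotient.liftₐ J α hα).comp g, β, ?_⟩
  rw [← hk]
  ext x
  obtain ⟨b, hb⟩ := Ideal.Quotient.mk_surjective (g x)
  show β (Ideal.Quotient.liftₐ J α hα (g x)) = k (g x)
  rw [← hb]
  exact DFunLike.congr_fun hβ b

/-- Ind-smoothness only depends on the ring map up to isomorphism. -/
theorem indSmooth_congr {R₁ R₂ Λ₁ Λ₂ : Type u} [CommRing R₁] [CommRing R₂] [CommRing Λ₁] [CommRing Λ₂]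
    [Algebra R₁ Λ₁] [Algebra R₂ Λ₂] (e : R₁ ≃+* R₂) (ε : Λ₁ ≃+* Λ₂)
    (hc : ∀ r, ε (algebraMap R₁ Λ₁ r) = algebraMap R₂ Λ₂ (e r)) (h : Smoothing.IndSmooth R₁ Λ₁) :
    Smoothing.IndSmooth R₂ Λ₂ := by
  intro A _ _ hA f
  let : Algebra R₁ R₂ := e.toRingHom.toAlgebra
  let : Algebra R₂ R₁ := e.symm.toRingHom.toAlgebra
  let : Algebra R₁ A := ((algebraMap R₂ A).comp e.toRingHom).toAlgebra
  have : IsScalarTower R₁ R₂ A := .of_algebraMap_eq fun _ => rfl
  have : Algebra.FinitePresentation R₁ R₂ :=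
    Algebra.FinitePresentation.equiv (AlgEquiv.ofRingEquiv (f := e) fun _ => rfl)
  have : Algebra.FinitePresentation R₁ A := Algebra.FinitePresentation.trans R₁ R₂ A
  let f₁ : A →ₐ[R₁] Λ₁ :=
    { ε.symm.toRingHom.comp f.toRingHom with
      commutes' := fun r => by
        show ε.symm (f (algebraMap R₂ A (e r))) = _
        rw [f.commutes, ← hc, ε.symm_apply_apply] }
  obtain ⟨B, _, _, hB, g, k, hk⟩ := h A inferInstance f₁
  let : Algebra R₂ B := ((algebraMap R₁ B).comp e.symm.toRingHom).toAlgebra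
  have : IsScalarTower R₂ R₁ B := .of_algebraMap_eq fun _ => rfl
  have : Algebra.Smooth R₂ R₁ := Algebra.Smooth.of_equiv (AlgEquiv.ofRingEquiv (f := e.symm) fun _ => rfl)
  let g₂ : A →ₐ[R₂] B :=
    { g.toRingHom with
      commutes' := fun r => by
        show g (algebraMap R₂ A r) = algebraMap R₁ B (e.symm r)
        rw [← g.commutes]
        exact congrArg g (congrArg (algebraMap R₂ A) (e.apply_symm_apply r).symm) }
  let k₂ : B →ₐ[R₂] Λ₂ :=
    { ε.toRingHom.comp k.toRingHom with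
      commutes' := fun r => by
        show ε (k (algebraMap R₁ B (e.symm r))) = _
        rw [k.commutes, hc, e.apply_symm_apply] }
  refine ⟨B, inferInstance, inferInstance, Algebra.Smooth.comp R₂ R₁ B, g₂, k₂, AlgHom.ext fun x => ?_⟩
  show ε (k (g x)) = f x
  rw [← AlgHom.comp_apply, hk]
  exact ε.apply_symm_apply _

/-- A flat algebra with ind-smooth reduction modulo a nilpotent ideal is ind-smooth. -/
theorem indSmooth_of_nilpotent {R Λ : Type u} [CommRing R] [CommRing Λ] [Algebra R Λ] [Module.Flat R Λ] {I : Ideal R}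
    (hI : IsNilpotent I) (h : Smoothing.IndSmooth (R ⧸ I) (Λ ⧸ I.map (algebraMap R Λ))) : Smoothing.IndSmooth R Λ := by
  revert Λ
  apply Ideal.IsNilpotent.induction_on (S := R) I hI
    (P := fun (S : Type u) _ J => ∀ {Λ : Type u} [CommRing Λ] [Algebra S Λ] [Module.Flat S Λ],
      Smoothing.IndSmooth (S ⧸ J) (Λ ⧸ J.map (algebraMap S Λ)) → Smoothing.IndSmooth S Λ)
  · intro S _ J hJ Λ _ _ _ h
    exact indSmooth_of_sq_zero hJ h
  · intro S _ K J hKJ hK hJK Λ _ _ _ h
    refine hK ?_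
    have : Module.Flat (S ⧸ K) (Λ ⧸ K.map (algebraMap S Λ)) :=
      Module.Flat.of_linearEquiv (Algebra.TensorProduct.quotIdealMapEquivQuotTensor Λ K).toLinearEquiv
    refine hJK ?_
    have hm : (J.map (Ideal.Quotient.mk K)).map (algebraMap (S ⧸ K) (Λ ⧸ K.map (algebraMap S Λ))) =
        (J.map (algebraMap S Λ)).map (Ideal.Quotient.mk (K.map (algebraMap S Λ))) := by
      rw [Ideal.map_map, Ideal.map_map]
      rfl
    refine indSmooth_congr ((DoubleQuot.quotQuotEquivQuotSup K J).trans (Ideal.quotEquivOfEq (sup_eq_right.2 hKJ))).symm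
      ((Ideal.quotEquivOfEq hm).trans ((DoubleQuot.quotQuotEquivQuotSup (K.map (algebraMap S Λ)) (J.map (algebraMap S Λ))).trans
        (Ideal.quotEquivOfEq (sup_eq_right.2 (Ideal.map_mono hKJ))))).symm (fun r => ?_) h
    obtain ⟨r, rfl⟩ := Ideal.Quotient.mk_surjective r
    rfl

end Groth.Agent.IndSmoothLift
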